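import Cfsg.Agent.H321.RM.MSeven
import Cfsg.Agent.H794.MonSeven
import Cfsg.Agent.H241.NHMonD
import Cfsg.Agent.H573.RM.MonTwo
import Cfsg.Agent.H715.Mon.Norm
import Cfsg.Agent.H808.RV.Iso
import Cfsg.Agent.S3331

/-!
# S3849, P11: the Monster, `(7,13)`, `(7,19)` (helper321)
-/

set_option autoImplicit false
set_option maxRecDepth 100000

namespace Cfsg.Agent.H321.RM

open Subgroup Cfsg Cfsg.Agent.H464.RM
open Cfsg.Agent.H241.Mon (Gam)
open Cfsg.Agent.MonsterX

universe u

theorem ndom_of {S : Type u} [Group S] (h : Spor.IsoM S) {π : Set ℕ} (hG : ¬ H571.DExt.Dom π Gam) :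
    ¬ H571.DExt.Dom π S := by
  obtain ⟨e⟩ := H573.RM.Mon.exists_equiv h
  exact fun hd => hG (H808.RV.dom_congr e hd)

theorem hyp : H794.MonSevenBig.Hyp (KDone.K.z : Gam) := H794.MonSeven.hyp_model

/-- one element of order 13 -/
theorem exists_thirteen : ∃ y : Gam, orderOf y = 13 ∧ ¬ 7 ^ 5 ∣ Nat.card (centralizer ({y} : Set Gam)) := by
  obtain ⟨x, Q, hx, only, -⟩ := H241.Mon.exists_thirteen
  have hx' : orderOf (x : Gam) = 13 := by rw [Subgroup.orderOf_coe, hx]
  exact ⟨x, hx', not_dvd_of_inv hyp H241.Mon.z_order (by rw [hx']; decide) (mem_centralizer_singleton_iff.1 x.2).symm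
    only (H241.Mon.not_dvd_inf hx (by norm_num) (by norm_num) (by norm_num))⟩

theorem no_7_13 : ¬ H571.DExt.Dom ({7, 13} : Set ℕ) Gam := by
  obtain ⟨y, hy, hc⟩ := exists_thirteen
  refine nd_of (no_ns (a := 6) (b := 3) (m := 808017424794512875886459904961710757005754368000000000 / (7 ^ 6 * 13 ^ 3))
    (c := 5) (by norm_num) (by norm_num) (by norm_num) (H241.Mon.card_G.trans (by norm_num)) (by norm_num) (by norm_num)
    (fun k hk hk6 => ?_) (fun k => if k = 2 then 1 else 0) (fun k hk hk3 => ?_) (by decide) (y := y) (l := 1)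
    (by rw [pow_one, ← hy, pow_orderOf_eq_one]) hc)
  · interval_cases k <;> norm_num
  · interval_cases k <;> norm_num

/-- **No `D_{7,13}` in the Monster.** -/
theorem no_m_7_13 {S : Type u} [Group S] [Finite S] (h : Spor.IsoM S) : ¬ H571.DExt.Dom ({7, 13} : Set ℕ) S :=
  ndom_of h no_7_13

theorem no_7_19 {S : Type u} [Group S] (h : Spor.IsoM S) : ¬ H571.DExt.Dom ({7, 19} : Set ℕ) Gam := by
  obtain ⟨P, hP, j, hj1, hj2, hc⟩ := exists_center hyp
  have hM : Spor.IsoM Gam := by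
    obtain ⟨e⟩ := H573.RM.Mon.exists_equiv h
    obtain ⟨f⟩ := h
    exact ⟨e.symm.trans f⟩
  refine nd_of (no_zc (a := 6) (m := 808017424794512875886459904961710757005754368000000000 / (7 ^ 6 * 19 ^ 1))
    (by norm_num) (by norm_num) (by norm_num) (H241.Mon.card_G.trans (by norm_num)) (by norm_num) (by norm_num)
    (fun x hx => ?_) hP ?_)
  · rw [(H715.Mon.Norm.M.norm19 (fun _ _ _ X hX hC => S3331.result X hX hC) hM (P := zpowers x)
      (by rw [Nat.card_zpowers, hx])).2]
    norm_num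
  · rw [hc]
    interval_cases j <;> norm_num

/-- **No `D_{7,19}` in the Monster.** -/
theorem no_m_7_19 {S : Type u} [Group S] [Finite S] (h : Spor.IsoM S) : ¬ H571.DExt.Dom ({7, 19} : Set ℕ) S :=
  ndom_of h (no_7_19 h)

end Cfsg.Agent.H321.RM
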